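import Cfsg.Agent.Coset.Fi22Rep.Data
import Cfsg.Agent.Coset.Checker
import Cfsg.Agent.Coset.Fi22.Rels
import Mathlib.LinearAlgebra.Matrix.GeneralLinearGroup.Basic
import Mathlib.Data.ZMod.Basic

/-! Sparse matrices acting on vectors packed four bits to a coordinate. -/

set_option autoImplicit false
set_option maxRecDepth 100000

namespace CfsgLib.Coset.Fi22.Rep

/-- A coordinate of a packed vector. -/
def lane (v i : Nat) : Nat := Nat.land (Nat.shiftRight v (4 * i)) 15

/-- Packing of coordinates. -/
def pack : List Nat → Nat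
  | [] => 0
  | a :: l => a % 16 + 16 * pack l

/-- A scalar product with a sparse row. -/
def dot (v : Nat) : List (Nat × Nat) → Nat
  | [] => 0
  | e :: r => e.2 * lane v e.1 + dot v r

/-- A matrix applied to a packed vector. -/
def app (rows : List (List (Nat × Nat))) (v : Nat) : Nat :=
  pack (rows.map fun r => dot v r % 13)

/-- A word applied to a packed vector. -/
def appW : List Nat → Nat → Nat
  | [], v => v
  | l :: w, v => app (gens.getD l []) (appW w v)

/-- The test that relators fix a basis vector. -/
def fixOK (ws : List (List Nat)) (i : Nat) : Bool :=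
  ws.all fun w => Nat.beq (appW w (Nat.shiftLeft 1 (4 * i))) (Nat.shiftLeft 1 (4 * i))

theorem lane_pack : ∀ (l : List Nat) (i : Nat), lane (pack l) i = l.getD i 0 % 16 := by
  intro l
  induction l with
  | nil => intro i; show Nat.shiftRight 0 (4 * i) &&& 15 = _; simp
  | cons a l ih =>
    intro i
    show Nat.shiftRight (pack (a :: l)) (4 * i) &&& 15 = _
    rw [show (15 : Nat) = 2 ^ 4 - 1 from rfl, Nat.and_two_pow_sub_one_eq_mod]
    show (pack (a :: l)) >>> (4 * i) % 2 ^ 4 = _
    rw [Nat.shiftRight_eq_div_pow]
    rcases i with _ | i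
    · simp [pack]
    · have h := ih i
      have h' : pack l / 2 ^ (4 * i) % 2 ^ 4 = l.getD i 0 % 16 := by
        rw [← Nat.shiftRight_eq_div_pow, ← Nat.and_two_pow_sub_one_eq_mod]
        exact h
      rw [show 4 * (i + 1) = 4 + 4 * i by ring, pow_add, ← Nat.div_div_eq_div_mul, pack,
        show (2 : Nat) ^ 4 = 16 from rfl, Nat.add_mul_div_left _ _ (by norm_num),
        Nat.div_eq_of_lt (Nat.mod_lt _ (by norm_num)), zero_add]
      simpa using h'

/-- A packed vector over the field. -/
def vec (v : Nat) : Fin 78 → ZMod 13 := fun i => (lane v i : Nat)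

/-- The matrix of sparse rows. -/
def mat (rows : List (List (Nat × Nat))) : Matrix (Fin 78) (Fin 78) (ZMod 13) := fun i j =>
  ((rows.getD i.val []).map fun e => if e.1 = j.val then (e.2 : ZMod 13) else 0).sum

theorem dot_eq (v : Nat) : ∀ r : List (Nat × Nat), (∀ e ∈ r, e.1 < 78) →
    (dot v r : ZMod 13) =
      ∑ j : Fin 78, (r.map fun e => if e.1 = j.val then (e.2 : ZMod 13) else 0).sum * vec v j := by
  intro r
  induction r with
  | nil => intro _; simp [dot]
  | cons e r ih =>
    intro h
    simp only [dot, List.map_cons, List.sum_cons, add_mul, Finset.sum_add_distrib, Nat.cast_add,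
      Nat.cast_mul]
    rw [ih fun x hx => h x (List.mem_cons_of_mem _ hx)]
    refine congrArg₂ (· + ·) ?_ rfl
    rw [Finset.sum_eq_single (⟨e.1, h e (by simp)⟩ : Fin 78)]
    · simp [vec]
    · intro j _ hj
      rw [if_neg, zero_mul]
      exact fun he => hj (Fin.ext he.symm)
    · simp

theorem vec_app {rows : List (List (Nat × Nat))} (h : ∀ r ∈ rows, ∀ e ∈ r, e.1 < 78)
    (hl : rows.length = 78) (v : Nat) : vec (app rows v) = Matrix.mulVec (mat rows) (vec v) := by
  funext i
  have hi : i.val < rows.length := by omega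
  show ((lane (app rows v) i.val : Nat) : ZMod 13) = ∑ j, mat rows i j * vec v j
  rw [app, lane_pack, List.getD_eq_getElem _ _ (by simpa using hi), List.getElem_map,
    Nat.mod_eq_of_lt ((Nat.mod_lt _ (by norm_num)).trans (by norm_num)), ZMod.natCast_mod,
    dot_eq v _ (h _ (List.getElem_mem hi))]
  simp [mat, List.getElem?_eq_getElem hi]

theorem gens_all : ((List.range 9).all fun l => Nat.beq (gens.getD l []).length 78 &&
    (gens.getD l []).all fun r => r.all fun e => Nat.blt e.1 78) = true := by decide +kernel

theorem gens_ok {l : Nat} (h : l < 9) : (gens.getD l []).length = 78 ∧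
    (gens.getD l []).all (fun r => r.all fun e => Nat.blt e.1 78) = true := by
  have := List.all_eq_true.mp gens_all l (List.mem_range.mpr h)
  rw [Bool.and_eq_true, Nat.beq_eq] at this
  exact this

/-- The image of a letter. -/
def M (l : Nat) : Matrix (Fin 78) (Fin 78) (ZMod 13) := mat (gens.getD l [])

/-- The image of a word. -/
def MW (w : List Nat) : Matrix (Fin 78) (Fin 78) (ZMod 13) := (w.map M).prod

theorem vec_appW : ∀ w : List Nat, (∀ l ∈ w, l < 9) → ∀ v,
    vec (appW w v) = Matrix.mulVec (MW w) (vec v) := by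
  intro w
  induction w with
  | nil => intro _ v; simp [MW, appW]
  | cons l w ih =>
    intro h v
    obtain ⟨h1, h2⟩ := gens_ok (h l (by simp))
    simp only [List.all_eq_true, Nat.blt_eq] at h2
    show vec (app (gens.getD l []) (appW w v)) = _
    rw [vec_app h2 h1, ih fun x hx => h x (by simp [hx])]
    simp [MW, M, Matrix.mulVec_mulVec]

theorem vec_unit_all : ((List.range 78).all fun i => (List.range 78).all fun j =>
    Nat.beq (lane (Nat.shiftLeft 1 (4 * i)) j) (if i = j then 1 else 0)) = true := by decide +kernel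

theorem vec_unit (i j : Fin 78) : lane (Nat.shiftLeft 1 (4 * i.val)) j.val =
    if i = j then 1 else 0 := by
  have := List.all_eq_true.mp (List.all_eq_true.mp vec_unit_all i.val (List.mem_range.mpr i.2))
    j.val (List.mem_range.mpr j.2)
  rw [Nat.beq_eq] at this
  rw [this]
  simp [Fin.ext_iff]

theorem MW_eq_one {w : List Nat} (hw : ∀ l ∈ w, l < 9)
    (h : ∀ i < 78, appW w (Nat.shiftLeft 1 (4 * i)) = Nat.shiftLeft 1 (4 * i)) : MW w = 1 := by
  ext i j
  have e := congrFun (vec_appW w hw (Nat.shiftLeft 1 (4 * j.val))) i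
  rw [h j.val j.2] at e
  have hv : vec (Nat.shiftLeft 1 (4 * j.val)) = Pi.single j 1 := by
    funext k
    rw [vec, vec_unit, Pi.single_apply]
    by_cases hk : j = k
    · simp [hk]
    · simp [hk, Ne.symm hk]
  rw [hv, Matrix.mulVec_single_one, Pi.single_apply] at e
  rw [Matrix.one_apply]
  exact e.symm

end CfsgLib.Coset.Fi22.Rep
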