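import Cfsg.Agent.Coset.Fi22Rep.Basic

/-! The relators fix basis vectors 0 to 9. -/

set_option autoImplicit false
set_option maxRecDepth 100000

namespace CfsgLib.Coset.Fi22.Rep

theorem fix0 : fixOK rels 0 = true := by decide +kernel
theorem fix1 : fixOK rels 1 = true := by decide +kernel
theorem fix2 : fixOK rels 2 = true := by decide +kernel
theorem fix3 : fixOK rels 3 = true := by decide +kernel
theorem fix4 : fixOK rels 4 = true := by decide +kernel
theorem fix5 : fixOK rels 5 = true := by decide +kernel
theorem fix6 : fixOK rels 6 = true := by decide +kernel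
theorem fix7 : fixOK rels 7 = true := by decide +kernel
theorem fix8 : fixOK rels 8 = true := by decide +kernel
theorem fix9 : fixOK rels 9 = true := by decide +kernel

theorem range0 : ∀ i, 0 ≤ i → i < 10 → fixOK rels i = true := by
  intro i h1 h2
  interval_cases i
  exacts [fix0, fix1, fix2, fix3, fix4, fix5, fix6, fix7, fix8, fix9]

end CfsgLib.Coset.Fi22.Rep
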