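import Cfsg.Agent.Coset.Fi22Rep.Basic

/-! The relators fix basis vectors 10 to 19. -/

set_option autoImplicit false
set_option maxRecDepth 100000

namespace CfsgLib.Coset.Fi22.Rep

theorem fix10 : fixOK rels 10 = true := by decide +kernel
theorem fix11 : fixOK rels 11 = true := by decide +kernel
theorem fix12 : fixOK rels 12 = true := by decide +kernel
theorem fix13 : fixOK rels 13 = true := by decide +kernel
theorem fix14 : fixOK rels 14 = true := by decide +kernel
theorem fix15 : fixOK rels 15 = true := by decide +kernel
theorem fix16 : fixOK rels 16 = true := by decide +kernel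
theorem fix17 : fixOK rels 17 = true := by decide +kernel
theorem fix18 : fixOK rels 18 = true := by decide +kernel
theorem fix19 : fixOK rels 19 = true := by decide +kernel

theorem range1 : ∀ i, 10 ≤ i → i < 20 → fixOK rels i = true := by
  intro i h1 h2
  interval_cases i
  exacts [fix10, fix11, fix12, fix13, fix14, fix15, fix16, fix17, fix18, fix19]

end CfsgLib.Coset.Fi22.Rep
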