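import Cfsg.Agent.Coset.Fi22Rep.Basic

/-! The relators fix basis vectors 20 to 29. -/

set_option autoImplicit false
set_option maxRecDepth 100000

namespace CfsgLib.Coset.Fi22.Rep

theorem fix20 : fixOK rels 20 = true := by decide +kernel
theorem fix21 : fixOK rels 21 = true := by decide +kernel
theorem fix22 : fixOK rels 22 = true := by decide +kernel
theorem fix23 : fixOK rels 23 = true := by decide +kernel
theorem fix24 : fixOK rels 24 = true := by decide +kernel
theorem fix25 : fixOK rels 25 = true := by decide +kernel
theorem fix26 : fixOK rels 26 = true := by decide +kernel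
theorem fix27 : fixOK rels 27 = true := by decide +kernel
theorem fix28 : fixOK rels 28 = true := by decide +kernel
theorem fix29 : fixOK rels 29 = true := by decide +kernel

theorem range2 : ∀ i, 20 ≤ i → i < 30 → fixOK rels i = true := by
  intro i h1 h2
  interval_cases i
  exacts [fix20, fix21, fix22, fix23, fix24, fix25, fix26, fix27, fix28, fix29]

end CfsgLib.Coset.Fi22.Rep
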