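import Cfsg.Agent.Coset.Fi22Rep.Basic

/-! The relators fix basis vectors 30 to 39. -/

set_option autoImplicit false
set_option maxRecDepth 100000

namespace CfsgLib.Coset.Fi22.Rep

theorem fix30 : fixOK rels 30 = true := by decide +kernel
theorem fix31 : fixOK rels 31 = true := by decide +kernel
theorem fix32 : fixOK rels 32 = true := by decide +kernel
theorem fix33 : fixOK rels 33 = true := by decide +kernel
theorem fix34 : fixOK rels 34 = true := by decide +kernel
theorem fix35 : fixOK rels 35 = true := by decide +kernel
theorem fix36 : fixOK rels 36 = true := by decide +kernel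
theorem fix37 : fixOK rels 37 = true := by decide +kernel
theorem fix38 : fixOK rels 38 = true := by decide +kernel
theorem fix39 : fixOK rels 39 = true := by decide +kernel

theorem range3 : ∀ i, 30 ≤ i → i < 40 → fixOK rels i = true := by
  intro i h1 h2
  interval_cases i
  exacts [fix30, fix31, fix32, fix33, fix34, fix35, fix36, fix37, fix38, fix39]

end CfsgLib.Coset.Fi22.Rep
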