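import Cfsg.Agent.Coset.Fi22Rep.Basic

/-! The relators fix basis vectors 40 to 49. -/

set_option autoImplicit false
set_option maxRecDepth 100000

namespace CfsgLib.Coset.Fi22.Rep

theorem fix40 : fixOK rels 40 = true := by decide +kernel
theorem fix41 : fixOK rels 41 = true := by decide +kernel
theorem fix42 : fixOK rels 42 = true := by decide +kernel
theorem fix43 : fixOK rels 43 = true := by decide +kernel
theorem fix44 : fixOK rels 44 = true := by decide +kernel
theorem fix45 : fixOK rels 45 = true := by decide +kernel
theorem fix46 : fixOK rels 46 = true := by decide +kernel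
theorem fix47 : fixOK rels 47 = true := by decide +kernel
theorem fix48 : fixOK rels 48 = true := by decide +kernel
theorem fix49 : fixOK rels 49 = true := by decide +kernel

theorem range4 : ∀ i, 40 ≤ i → i < 50 → fixOK rels i = true := by
  intro i h1 h2
  interval_cases i
  exacts [fix40, fix41, fix42, fix43, fix44, fix45, fix46, fix47, fix48, fix49]

end CfsgLib.Coset.Fi22.Rep
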