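import Cfsg.Agent.Coset.Fi22Rep.Basic

/-! The relators fix basis vectors 50 to 58. -/

set_option autoImplicit false
set_option maxRecDepth 100000

namespace CfsgLib.Coset.Fi22.Rep

theorem fix50 : fixOK rels 50 = true := by decide +kernel
theorem fix51 : fixOK rels 51 = true := by decide +kernel
theorem fix52 : fixOK rels 52 = true := by decide +kernel
theorem fix53 : fixOK rels 53 = true := by decide +kernel
theorem fix54 : fixOK rels 54 = true := by decide +kernel
theorem fix55 : fixOK rels 55 = true := by decide +kernel
theorem fix56 : fixOK rels 56 = true := by decide +kernel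
theorem fix57 : fixOK rels 57 = true := by decide +kernel
theorem fix58 : fixOK rels 58 = true := by decide +kernel

theorem range5 : ∀ i, 50 ≤ i → i < 59 → fixOK rels i = true := by
  intro i h1 h2
  interval_cases i
  exacts [fix50, fix51, fix52, fix53, fix54, fix55, fix56, fix57, fix58]

end CfsgLib.Coset.Fi22.Rep
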