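import Cfsg.Agent.Coset.Fi22Rep.Basic

/-! The relators fix basis vectors 59 to 67. -/

set_option autoImplicit false
set_option maxRecDepth 100000

namespace CfsgLib.Coset.Fi22.Rep

theorem fix59 : fixOK rels 59 = true := by decide +kernel
theorem fix60 : fixOK rels 60 = true := by decide +kernel
theorem fix61 : fixOK rels 61 = true := by decide +kernel
theorem fix62 : fixOK rels 62 = true := by decide +kernel
theorem fix63 : fixOK rels 63 = true := by decide +kernel
theorem fix64 : fixOK rels 64 = true := by decide +kernel
theorem fix65 : fixOK rels 65 = true := by decide +kernel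
theorem fix66 : fixOK rels 66 = true := by decide +kernel
theorem fix67 : fixOK rels 67 = true := by decide +kernel

theorem range6 : ∀ i, 59 ≤ i → i < 68 → fixOK rels i = true := by
  intro i h1 h2
  interval_cases i
  exacts [fix59, fix60, fix61, fix62, fix63, fix64, fix65, fix66, fix67]

end CfsgLib.Coset.Fi22.Rep
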