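import Cfsg.Agent.Coset.Fi22Rep.Basic

/-! The relators fix basis vectors 68 to 77. -/

set_option autoImplicit false
set_option maxRecDepth 100000

namespace CfsgLib.Coset.Fi22.Rep

theorem fix68 : fixOK rels 68 = true := by decide +kernel
theorem fix69 : fixOK rels 69 = true := by decide +kernel
theorem fix70 : fixOK rels 70 = true := by decide +kernel
theorem fix71 : fixOK rels 71 = true := by decide +kernel
theorem fix72 : fixOK rels 72 = true := by decide +kernel
theorem fix73 : fixOK rels 73 = true := by decide +kernel
theorem fix74 : fixOK rels 74 = true := by decide +kernel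
theorem fix75 : fixOK rels 75 = true := by decide +kernel
theorem fix76 : fixOK rels 76 = true := by decide +kernel
theorem fix77 : fixOK rels 77 = true := by decide +kernel

theorem range7 : ∀ i, 68 ≤ i → i < 78 → fixOK rels i = true := by
  intro i h1 h2
  interval_cases i
  exacts [fix68, fix69, fix70, fix71, fix72, fix73, fix74, fix75, fix76, fix77]

end CfsgLib.Coset.Fi22.Rep
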