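/-! Nine matrices of degree 78 over the field with 13 elements, by their non-zero entries. -/

set_option autoImplicit false

namespace CfsgLib.Coset.Fi22.Rep

/-- Rows of the image of generator 0. -/
def gen0 : List (List (Nat × Nat)) := [
  [(0, 1)],
  [(1, 12)],
  [(2, 1)],
  [(3, 1)],
  [(4, 12)],
  [(5, 1)],
  [(6, 12)],
  [(7, 12)],
  [(8, 12)],
  [(9, 12)],
  [(10, 1)],
  [(11, 12)],
  [(12, 12)],
  [(13, 1)],
  [(14, 12)],
  [(15, 1)],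
  [(16, 12)],
  [(17, 12)],
  [(18, 1)],
  [(19, 12)],
  [(20, 12)],
  [(21, 1)],
  [(22, 12)],
  [(23, 12)],
  [(24, 1)],
  [(25, 12)],
  [(26, 12)],
  [(27, 12)],
  [(28, 12)],
  [(29, 12)],
  [(30, 12)],
  [(31, 12)],
  [(32, 1)],
  [(33, 12)],
  [(34, 12)],
  [(35, 1)],
  [(36, 12)],
  [(37, 12)],
  [(38, 1)],
  [(39, 12)],
  [(40, 12)],
  [(41, 1)],
  [(42, 12)],
  [(43, 12)],
  [(44, 12)],
  [(45, 12)],
  [(46, 12)],
  [(47, 12)],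
  [(48, 12)],
  [(49, 1)],
  [(50, 12)],
  [(51, 12)],
  [(52, 1)],
  [(53, 1)],
  [(54, 12)],
  [(55, 12)],
  [(56, 12)],
  [(57, 12)],
  [(58, 1)],
  [(59, 12)],
  [(60, 1)],
  [(61, 12)],
  [(62, 12)],
  [(63, 12)],
  [(64, 12)],
  [(65, 12)],
  [(66, 12)],
  [(67, 12)],
  [(68, 1)],
  [(69, 12)],
  [(70, 1)],
  [(71, 12)],
  [(72, 12)],
  [(73, 1)],
  [(74, 12)],
  [(75, 12)],
  [(76, 12)],
  [(77, 12)]]

/-- Rows of the image of generator 1. -/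
def gen1 : List (List (Nat × Nat)) := [
  [(0, 6), (20, 2)],
  [(1, 6), (13, 7), (47, 6), (69, 7)],
  [(2, 6), (36, 7), (45, 7), (59, 6)],
  [(3, 6), (19, 6), (31, 7), (74, 7)],
  [(4, 6), (37, 6), (44, 6), (58, 6)],
  [(5, 6), (12, 7), (30, 7), (75, 6)],
  [(6, 6), (17, 7), (53, 7), (62, 6)],
  [(7, 6), (16, 7), (42, 6), (70, 7)],
  [(8, 3), (10, 3), (14, 3), (32, 3), (34, 3), (35, 3), (43, 10), (48, 10), (49, 10), (55, 10), (60, 10), (63, 10), (65, 10), (71, 10), (73, 3), (77, 3)],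
  [(9, 6), (33, 7), (41, 7), (64, 6)],
  [(8, 3), (10, 3), (14, 10), (32, 3), (34, 3), (35, 10), (43, 3), (48, 10), (49, 10), (55, 3), (60, 10), (63, 10), (65, 3), (71, 3), (73, 10), (77, 10)],
  [(11, 6), (15, 6), (54, 6), (61, 6)],
  [(5, 7), (12, 6), (30, 7), (75, 6)],
  [(1, 7), (13, 6), (47, 6), (69, 7)],
  [(8, 3), (10, 10), (14, 3), (32, 3), (34, 10), (35, 3), (43, 10), (48, 10), (49, 3), (55, 3), (60, 3), (63, 10), (65, 10), (71, 3), (73, 10), (77, 10)],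
  [(11, 6), (15, 6), (54, 7), (61, 7)],
  [(7, 7), (16, 6), (42, 6), (70, 7)],
  [(6, 7), (17, 6), (53, 7), (62, 6)],
  [(18, 6), (29, 7), (46, 6), (57, 7)],
  [(3, 6), (19, 6), (31, 6), (74, 6)],
  [(0, 2), (20, 7)],
  [(21, 6), (25, 7), (56, 7), (67, 6)],
  [(22, 6), (27, 7), (38, 7), (76, 6)],
  [(23, 6), (40, 7), (51, 6), (68, 7)],
  [(24, 6), (26, 6), (50, 7), (72, 7)],
  [(21, 7), (25, 6), (56, 7), (67, 6)],
  [(24, 6), (26, 6), (50, 6), (72, 6)],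
  [(22, 7), (27, 6), (38, 7), (76, 6)],
  [(28, 6), (39, 6), (52, 6), (66, 6)],
  [(18, 7), (29, 6), (46, 6), (57, 7)],
  [(5, 7), (12, 7), (30, 6), (75, 6)],
  [(3, 7), (19, 6), (31, 6), (74, 7)],
  [(8, 3), (10, 3), (14, 3), (32, 3), (34, 3), (35, 3), (43, 3), (48, 3), (49, 3), (55, 3), (60, 3), (63, 3), (65, 3), (71, 3), (73, 3), (77, 3)],
  [(9, 7), (33, 6), (41, 7), (64, 6)],
  [(8, 3), (10, 3), (14, 10), (32, 3), (34, 3), (35, 10), (43, 10), (48, 3), (49, 3), (55, 10), (60, 3), (63, 3), (65, 10), (71, 10), (73, 10), (77, 10)],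
  [(8, 3), (10, 10), (14, 3), (32, 3), (34, 10), (35, 3), (43, 3), (48, 3), (49, 10), (55, 10), (60, 10), (63, 3), (65, 3), (71, 10), (73, 10), (77, 10)],
  [(2, 7), (36, 6), (45, 7), (59, 6)],
  [(4, 6), (37, 6), (44, 7), (58, 7)],
  [(22, 7), (27, 7), (38, 6), (76, 6)],
  [(28, 6), (39, 6), (52, 7), (66, 7)],
  [(23, 7), (40, 6), (51, 6), (68, 7)],
  [(9, 7), (33, 7), (41, 6), (64, 6)],
  [(7, 6), (16, 6), (42, 6), (70, 6)],
  [(8, 10), (10, 3), (14, 10), (32, 3), (34, 10), (35, 3), (43, 3), (48, 3), (49, 10), (55, 3), (60, 3), (63, 10), (65, 10), (71, 10), (73, 10), (77, 3)],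
  [(4, 6), (37, 7), (44, 6), (58, 7)],
  [(2, 7), (36, 7), (45, 6), (59, 6)],
  [(18, 6), (29, 6), (46, 6), (57, 6)],
  [(1, 6), (13, 6), (47, 6), (69, 6)],
  [(8, 10), (10, 10), (14, 10), (32, 3), (34, 3), (35, 3), (43, 3), (48, 3), (49, 3), (55, 10), (60, 10), (63, 10), (65, 10), (71, 3), (73, 3), (77, 10)],
  [(8, 10), (10, 10), (14, 3), (32, 3), (34, 3), (35, 10), (43, 10), (48, 3), (49, 3), (55, 3), (60, 10), (63, 10), (65, 3), (71, 10), (73, 10), (77, 3)],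
  [(24, 7), (26, 6), (50, 6), (72, 7)],
  [(23, 6), (40, 6), (51, 6), (68, 6)],
  [(28, 6), (39, 7), (52, 6), (66, 7)],
  [(6, 7), (17, 7), (53, 6), (62, 6)],
  [(11, 6), (15, 7), (54, 6), (61, 7)],
  [(8, 10), (10, 3), (14, 3), (32, 3), (34, 10), (35, 10), (43, 3), (48, 10), (49, 3), (55, 3), (60, 10), (63, 3), (65, 10), (71, 10), (73, 3), (77, 10)],
  [(21, 7), (25, 7), (56, 6), (67, 6)],
  [(18, 7), (29, 7), (46, 6), (57, 6)],
  [(4, 6), (37, 7), (44, 7), (58, 6)],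
  [(2, 6), (36, 6), (45, 6), (59, 6)],
  [(8, 10), (10, 10), (14, 3), (32, 3), (34, 3), (35, 10), (43, 3), (48, 10), (49, 10), (55, 10), (60, 3), (63, 3), (65, 10), (71, 3), (73, 10), (77, 3)],
  [(11, 6), (15, 7), (54, 7), (61, 6)],
  [(6, 6), (17, 6), (53, 6), (62, 6)],
  [(8, 10), (10, 10), (14, 10), (32, 3), (34, 3), (35, 3), (43, 10), (48, 10), (49, 10), (55, 3), (60, 3), (63, 3), (65, 3), (71, 10), (73, 3), (77, 10)],
  [(9, 6), (33, 6), (41, 6), (64, 6)],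
  [(8, 10), (10, 3), (14, 10), (32, 3), (34, 10), (35, 3), (43, 10), (48, 10), (49, 3), (55, 10), (60, 10), (63, 3), (65, 3), (71, 3), (73, 10), (77, 3)],
  [(28, 6), (39, 7), (52, 7), (66, 6)],
  [(21, 6), (25, 6), (56, 6), (67, 6)],
  [(23, 7), (40, 7), (51, 6), (68, 6)],
  [(1, 7), (13, 7), (47, 6), (69, 6)],
  [(7, 7), (16, 7), (42, 6), (70, 6)],
  [(8, 10), (10, 3), (14, 3), (32, 3), (34, 10), (35, 10), (43, 10), (48, 3), (49, 10), (55, 10), (60, 3), (63, 10), (65, 3), (71, 3), (73, 3), (77, 10)],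
  [(24, 7), (26, 6), (50, 7), (72, 6)],
  [(8, 3), (10, 10), (14, 10), (32, 3), (34, 10), (35, 10), (43, 10), (48, 3), (49, 10), (55, 3), (60, 10), (63, 3), (65, 10), (71, 3), (73, 3), (77, 3)],
  [(3, 7), (19, 6), (31, 7), (74, 6)],
  [(5, 6), (12, 6), (30, 6), (75, 6)],
  [(22, 6), (27, 6), (38, 6), (76, 6)],
  [(8, 3), (10, 10), (14, 10), (32, 3), (34, 10), (35, 10), (43, 3), (48, 10), (49, 3), (55, 10), (60, 3), (63, 10), (65, 3), (71, 10), (73, 3), (77, 3)]]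

/-- Rows of the image of generator 2. -/
def gen2 : List (List (Nat × Nat)) := [
  [(0, 1)],
  [(1, 12)],
  [(2, 12)],
  [(3, 12)],
  [(4, 12)],
  [(5, 12)],
  [(6, 12)],
  [(7, 12)],
  [(8, 12)],
  [(9, 1)],
  [(10, 1)],
  [(11, 1)],
  [(12, 1)],
  [(13, 1)],
  [(14, 12)],
  [(15, 12)],
  [(16, 12)],
  [(17, 12)],
  [(18, 12)],
  [(19, 1)],
  [(20, 12)],
  [(21, 12)],
  [(22, 12)],
  [(23, 12)],
  [(24, 1)],
  [(25, 1)],
  [(26, 12)],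
  [(27, 12)],
  [(28, 1)],
  [(29, 12)],
  [(30, 12)],
  [(31, 12)],
  [(32, 12)],
  [(33, 12)],
  [(34, 1)],
  [(35, 12)],
  [(36, 12)],
  [(37, 1)],
  [(38, 12)],
  [(39, 12)],
  [(40, 1)],
  [(41, 12)],
  [(42, 12)],
  [(43, 12)],
  [(44, 12)],
  [(45, 1)],
  [(46, 1)],
  [(47, 12)],
  [(48, 12)],
  [(49, 1)],
  [(50, 12)],
  [(51, 12)],
  [(52, 12)],
  [(53, 12)],
  [(54, 12)],
  [(55, 1)],
  [(56, 12)],
  [(57, 12)],
  [(58, 12)],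
  [(59, 12)],
  [(60, 12)],
  [(61, 12)],
  [(62, 1)],
  [(63, 1)],
  [(64, 12)],
  [(65, 1)],
  [(66, 12)],
  [(67, 12)],
  [(68, 12)],
  [(69, 12)],
  [(70, 1)],
  [(71, 12)],
  [(72, 12)],
  [(73, 12)],
  [(74, 12)],
  [(75, 12)],
  [(76, 1)],
  [(77, 12)]]

/-- Rows of the image of generator 3. -/
def gen3 : List (List (Nat × Nat)) := [
  [(0, 6), (58, 11)],
  [(1, 6), (9, 6), (27, 7), (54, 6)],
  [(2, 6), (21, 7), (32, 6), (49, 6)],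
  [(3, 6), (10, 6), (35, 7), (52, 6)],
  [(4, 6), (20, 7), (37, 6), (44, 6)],
  [(5, 6), (18, 6), (24, 7), (53, 6)],
  [(6, 6), (26, 7), (30, 6), (46, 6)],
  [(7, 3), (14, 10), (19, 10), (23, 3), (25, 3), (28, 10), (31, 10), (34, 10), (36, 3), (39, 10), (42, 10), (45, 10), (48, 3), (51, 10), (55, 3), (56, 10)],
  [(8, 6), (16, 6), (40, 7), (43, 6)],
  [(1, 6), (9, 6), (27, 6), (54, 7)],
  [(3, 6), (10, 6), (35, 6), (52, 7)],
  [(11, 6), (22, 7), (33, 6), (47, 6)],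
  [(12, 6), (17, 6), (29, 6), (50, 7)],
  [(13, 6), (15, 6), (38, 7), (41, 6)],
  [(7, 10), (14, 3), (19, 10), (23, 3), (25, 10), (28, 3), (31, 3), (34, 10), (36, 10), (39, 10), (42, 3), (45, 10), (48, 10), (51, 10), (55, 3), (56, 10)],
  [(13, 6), (15, 6), (38, 6), (41, 7)],
  [(8, 6), (16, 6), (40, 6), (43, 7)],
  [(12, 6), (17, 6), (29, 7), (50, 6)],
  [(5, 6), (18, 6), (24, 6), (53, 7)],
  [(7, 10), (14, 10), (19, 3), (23, 10), (25, 3), (28, 3), (31, 10), (34, 3), (36, 10), (39, 10), (42, 10), (45, 3), (48, 10), (51, 10), (55, 3), (56, 10)],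
  [(4, 7), (20, 6), (37, 6), (44, 6)],
  [(2, 7), (21, 6), (32, 6), (49, 6)],
  [(11, 7), (22, 6), (33, 6), (47, 6)],
  [(7, 3), (14, 3), (19, 10), (23, 3), (25, 10), (28, 10), (31, 10), (34, 3), (36, 10), (39, 10), (42, 10), (45, 3), (48, 10), (51, 10), (55, 10), (56, 3)],
  [(5, 7), (18, 6), (24, 6), (53, 6)],
  [(7, 3), (14, 10), (19, 3), (23, 10), (25, 3), (28, 10), (31, 3), (34, 10), (36, 10), (39, 10), (42, 3), (45, 10), (48, 10), (51, 10), (55, 10), (56, 3)],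
  [(6, 7), (26, 6), (30, 6), (46, 6)],
  [(1, 7), (9, 6), (27, 6), (54, 6)],
  [(7, 10), (14, 3), (19, 3), (23, 10), (25, 10), (28, 3), (31, 10), (34, 10), (36, 3), (39, 10), (42, 10), (45, 10), (48, 3), (51, 10), (55, 10), (56, 3)],
  [(12, 6), (17, 7), (29, 6), (50, 6)],
  [(6, 6), (26, 6), (30, 6), (46, 7)],
  [(7, 10), (14, 3), (19, 10), (23, 10), (25, 3), (28, 10), (31, 3), (34, 10), (36, 10), (39, 3), (42, 10), (45, 3), (48, 3), (51, 10), (55, 10), (56, 10)],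
  [(2, 6), (21, 6), (32, 6), (49, 7)],
  [(11, 6), (22, 6), (33, 6), (47, 7)],
  [(7, 10), (14, 10), (19, 3), (23, 3), (25, 10), (28, 10), (31, 10), (34, 3), (36, 10), (39, 3), (42, 3), (45, 10), (48, 3), (51, 10), (55, 10), (56, 10)],
  [(3, 7), (10, 6), (35, 6), (52, 6)],
  [(7, 3), (14, 10), (19, 10), (23, 10), (25, 10), (28, 3), (31, 10), (34, 10), (36, 3), (39, 3), (42, 3), (45, 3), (48, 10), (51, 10), (55, 10), (56, 10)],
  [(4, 6), (20, 6), (37, 6), (44, 7)],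
  [(13, 7), (15, 6), (38, 6), (41, 6)],
  [(7, 10), (14, 10), (19, 10), (23, 10), (25, 10), (28, 10), (31, 3), (34, 3), (36, 3), (39, 3), (42, 10), (45, 10), (48, 10), (51, 10), (55, 3), (56, 3)],
  [(8, 7), (16, 6), (40, 6), (43, 6)],
  [(13, 6), (15, 7), (38, 6), (41, 6)],
  [(7, 10), (14, 3), (19, 10), (23, 10), (25, 3), (28, 10), (31, 10), (34, 3), (36, 3), (39, 10), (42, 3), (45, 10), (48, 10), (51, 3), (55, 10), (56, 10)],
  [(8, 6), (16, 7), (40, 6), (43, 6)],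
  [(4, 6), (20, 6), (37, 7), (44, 6)],
  [(7, 10), (14, 10), (19, 3), (23, 3), (25, 10), (28, 10), (31, 3), (34, 10), (36, 3), (39, 10), (42, 10), (45, 3), (48, 10), (51, 3), (55, 10), (56, 10)],
  [(6, 6), (26, 6), (30, 7), (46, 6)],
  [(11, 6), (22, 6), (33, 7), (47, 6)],
  [(7, 3), (14, 10), (19, 10), (23, 10), (25, 10), (28, 3), (31, 3), (34, 3), (36, 10), (39, 10), (42, 10), (45, 10), (48, 3), (51, 3), (55, 10), (56, 10)],
  [(2, 6), (21, 6), (32, 7), (49, 6)],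
  [(12, 7), (17, 6), (29, 6), (50, 6)],
  [(7, 10), (14, 10), (19, 10), (23, 10), (25, 10), (28, 10), (31, 10), (34, 10), (36, 10), (39, 10), (42, 3), (45, 3), (48, 3), (51, 3), (55, 3), (56, 3)],
  [(3, 6), (10, 7), (35, 6), (52, 6)],
  [(5, 6), (18, 7), (24, 6), (53, 6)],
  [(1, 6), (9, 7), (27, 6), (54, 6)],
  [(7, 3), (14, 3), (19, 3), (23, 10), (25, 10), (28, 10), (31, 10), (34, 10), (36, 10), (39, 3), (42, 10), (45, 10), (48, 10), (51, 3), (55, 3), (56, 10)],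
  [(7, 10), (14, 10), (19, 10), (23, 3), (25, 3), (28, 3), (31, 10), (34, 10), (36, 10), (39, 3), (42, 10), (45, 10), (48, 10), (51, 3), (55, 10), (56, 3)],
  [(57, 6), (62, 6), (72, 6), (75, 7)],
  [(0, 11), (58, 7)],
  [(59, 6), (65, 6), (67, 7), (77, 6)],
  [(60, 6), (68, 7), (70, 6), (73, 6)],
  [(61, 6), (64, 6), (69, 6), (76, 7)],
  [(57, 6), (62, 6), (72, 7), (75, 6)],
  [(63, 6), (66, 7), (71, 6), (74, 6)],
  [(61, 6), (64, 6), (69, 7), (76, 6)],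
  [(59, 6), (65, 6), (67, 6), (77, 7)],
  [(63, 7), (66, 6), (71, 6), (74, 6)],
  [(59, 7), (65, 6), (67, 6), (77, 6)],
  [(60, 7), (68, 6), (70, 6), (73, 6)],
  [(61, 6), (64, 7), (69, 6), (76, 6)],
  [(60, 6), (68, 6), (70, 6), (73, 7)],
  [(63, 6), (66, 6), (71, 6), (74, 7)],
  [(57, 6), (62, 7), (72, 6), (75, 6)],
  [(60, 6), (68, 6), (70, 7), (73, 6)],
  [(63, 6), (66, 6), (71, 7), (74, 6)],
  [(57, 7), (62, 6), (72, 6), (75, 6)],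
  [(61, 7), (64, 6), (69, 6), (76, 6)],
  [(59, 6), (65, 7), (67, 6), (77, 6)]]

/-- Rows of the image of generator 4. -/
def gen4 : List (List (Nat × Nat)) := [
  [(0, 1)],
  [(1, 12)],
  [(2, 12)],
  [(3, 12)],
  [(4, 12)],
  [(5, 12)],
  [(6, 12)],
  [(7, 12)],
  [(8, 12)],
  [(9, 12)],
  [(10, 12)],
  [(11, 12)],
  [(12, 12)],
  [(13, 12)],
  [(14, 12)],
  [(15, 12)],
  [(16, 12)],
  [(17, 12)],
  [(18, 12)],
  [(19, 12)],
  [(20, 1)],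
  [(21, 1)],
  [(22, 1)],
  [(23, 1)],
  [(24, 1)],
  [(25, 1)],
  [(26, 1)],
  [(27, 1)],
  [(28, 1)],
  [(29, 12)],
  [(30, 12)],
  [(31, 12)],
  [(32, 12)],
  [(33, 12)],
  [(34, 12)],
  [(35, 12)],
  [(36, 12)],
  [(37, 12)],
  [(38, 1)],
  [(39, 1)],
  [(40, 1)],
  [(41, 12)],
  [(42, 12)],
  [(43, 12)],
  [(44, 12)],
  [(45, 12)],
  [(46, 12)],
  [(47, 12)],
  [(48, 12)],
  [(49, 12)],
  [(50, 1)],
  [(51, 1)],
  [(52, 1)],
  [(53, 12)],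
  [(54, 12)],
  [(55, 12)],
  [(56, 1)],
  [(57, 12)],
  [(58, 12)],
  [(59, 12)],
  [(60, 12)],
  [(61, 12)],
  [(62, 12)],
  [(63, 12)],
  [(64, 12)],
  [(65, 12)],
  [(66, 1)],
  [(67, 1)],
  [(68, 1)],
  [(69, 12)],
  [(70, 12)],
  [(71, 12)],
  [(72, 1)],
  [(73, 12)],
  [(74, 12)],
  [(75, 12)],
  [(76, 1)],
  [(77, 12)]]

/-- Rows of the image of generator 5. -/
def gen5 : List (List (Nat × Nat)) := [
  [(0, 6), (70, 11)],
  [(1, 3), (4, 3), (6, 10), (8, 10), (14, 3), (17, 3), (22, 10), (23, 3), (26, 10), (27, 3), (43, 10), (44, 3), (47, 10), (48, 3), (50, 3), (51, 3)],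
  [(2, 6), (5, 7), (15, 7), (52, 7)],
  [(3, 6), (18, 7), (21, 6), (41, 6)],
  [(1, 3), (4, 3), (6, 10), (8, 10), (14, 3), (17, 3), (22, 3), (23, 10), (26, 3), (27, 10), (43, 3), (44, 10), (47, 3), (48, 10), (50, 3), (51, 3)],
  [(2, 7), (5, 6), (15, 7), (52, 7)],
  [(1, 10), (4, 10), (6, 3), (8, 3), (14, 3), (17, 3), (22, 10), (23, 3), (26, 3), (27, 10), (43, 3), (44, 10), (47, 10), (48, 3), (50, 3), (51, 3)],
  [(7, 6), (16, 7), (20, 6), (42, 6)],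
  [(1, 10), (4, 10), (6, 3), (8, 3), (14, 3), (17, 3), (22, 3), (23, 10), (26, 10), (27, 3), (43, 10), (44, 3), (47, 3), (48, 10), (50, 3), (51, 3)],
  [(9, 6), (19, 7), (25, 7), (46, 7)],
  [(10, 6), (13, 6), (24, 7), (49, 6)],
  [(11, 6), (12, 6), (28, 7), (45, 6)],
  [(11, 6), (12, 6), (28, 6), (45, 7)],
  [(10, 6), (13, 6), (24, 6), (49, 7)],
  [(1, 3), (4, 3), (6, 3), (8, 3), (14, 3), (17, 3), (22, 3), (23, 3), (26, 3), (27, 3), (43, 10), (44, 10), (47, 10), (48, 10), (50, 10), (51, 10)],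
  [(2, 7), (5, 7), (15, 6), (52, 7)],
  [(7, 7), (16, 6), (20, 6), (42, 6)],
  [(1, 3), (4, 3), (6, 3), (8, 3), (14, 3), (17, 3), (22, 10), (23, 10), (26, 10), (27, 10), (43, 3), (44, 3), (47, 3), (48, 3), (50, 10), (51, 10)],
  [(3, 7), (18, 6), (21, 6), (41, 6)],
  [(9, 7), (19, 6), (25, 7), (46, 7)],
  [(7, 6), (16, 6), (20, 6), (42, 7)],
  [(3, 6), (18, 6), (21, 6), (41, 7)],
  [(1, 10), (4, 3), (6, 10), (8, 3), (14, 3), (17, 10), (22, 3), (23, 10), (26, 3), (27, 3), (43, 3), (44, 3), (47, 10), (48, 3), (50, 3), (51, 10)],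
  [(1, 3), (4, 10), (6, 3), (8, 10), (14, 3), (17, 10), (22, 10), (23, 3), (26, 3), (27, 3), (43, 3), (44, 3), (47, 3), (48, 10), (50, 3), (51, 10)],
  [(10, 7), (13, 6), (24, 6), (49, 6)],
  [(9, 7), (19, 7), (25, 6), (46, 7)],
  [(1, 10), (4, 3), (6, 3), (8, 10), (14, 3), (17, 10), (22, 3), (23, 3), (26, 3), (27, 10), (43, 10), (44, 3), (47, 3), (48, 3), (50, 10), (51, 3)],
  [(1, 3), (4, 10), (6, 10), (8, 3), (14, 3), (17, 10), (22, 3), (23, 3), (26, 10), (27, 3), (43, 3), (44, 10), (47, 3), (48, 3), (50, 10), (51, 3)],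
  [(11, 7), (12, 6), (28, 6), (45, 6)],
  [(29, 6), (31, 7), (33, 6), (56, 6)],
  [(30, 6), (36, 7), (39, 7), (54, 7)],
  [(29, 7), (31, 6), (33, 6), (56, 6)],
  [(32, 6), (35, 7), (38, 7), (53, 7)],
  [(29, 6), (31, 6), (33, 6), (56, 7)],
  [(34, 6), (37, 7), (40, 6), (55, 6)],
  [(32, 7), (35, 6), (38, 7), (53, 7)],
  [(30, 7), (36, 6), (39, 7), (54, 7)],
  [(34, 7), (37, 6), (40, 6), (55, 6)],
  [(32, 7), (35, 7), (38, 6), (53, 7)],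
  [(30, 7), (36, 7), (39, 6), (54, 7)],
  [(34, 6), (37, 6), (40, 6), (55, 7)],
  [(3, 6), (18, 6), (21, 7), (41, 6)],
  [(7, 6), (16, 6), (20, 7), (42, 6)],
  [(1, 10), (4, 3), (6, 3), (8, 10), (14, 10), (17, 3), (22, 3), (23, 3), (26, 10), (27, 3), (43, 3), (44, 10), (47, 3), (48, 3), (50, 3), (51, 10)],
  [(1, 3), (4, 10), (6, 10), (8, 3), (14, 10), (17, 3), (22, 3), (23, 3), (26, 3), (27, 10), (43, 10), (44, 3), (47, 3), (48, 3), (50, 3), (51, 10)],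
  [(11, 6), (12, 7), (28, 6), (45, 6)],
  [(9, 7), (19, 7), (25, 7), (46, 6)],
  [(1, 10), (4, 3), (6, 10), (8, 3), (14, 10), (17, 3), (22, 10), (23, 3), (26, 3), (27, 3), (43, 3), (44, 3), (47, 3), (48, 10), (50, 10), (51, 3)],
  [(1, 3), (4, 10), (6, 3), (8, 10), (14, 10), (17, 3), (22, 3), (23, 10), (26, 3), (27, 3), (43, 3), (44, 3), (47, 10), (48, 3), (50, 10), (51, 3)],
  [(10, 6), (13, 7), (24, 6), (49, 6)],
  [(1, 3), (4, 3), (6, 3), (8, 3), (14, 10), (17, 10), (22, 3), (23, 3), (26, 10), (27, 10), (43, 3), (44, 3), (47, 10), (48, 10), (50, 3), (51, 3)],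
  [(1, 3), (4, 3), (6, 3), (8, 3), (14, 10), (17, 10), (22, 10), (23, 10), (26, 3), (27, 3), (43, 10), (44, 10), (47, 3), (48, 3), (50, 3), (51, 3)],
  [(2, 7), (5, 7), (15, 7), (52, 6)],
  [(32, 7), (35, 7), (38, 7), (53, 6)],
  [(30, 7), (36, 7), (39, 7), (54, 6)],
  [(34, 6), (37, 6), (40, 7), (55, 6)],
  [(29, 6), (31, 6), (33, 7), (56, 6)],
  [(57, 6), (64, 7), (67, 7), (74, 7)],
  [(58, 6), (60, 6), (68, 6), (73, 7)],
  [(59, 6), (61, 6), (66, 6), (75, 7)],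
  [(58, 6), (60, 6), (68, 7), (73, 6)],
  [(59, 6), (61, 6), (66, 7), (75, 6)],
  [(62, 6), (63, 7), (65, 7), (76, 7)],
  [(62, 7), (63, 6), (65, 7), (76, 7)],
  [(57, 7), (64, 6), (67, 7), (74, 7)],
  [(62, 7), (63, 7), (65, 6), (76, 7)],
  [(59, 6), (61, 7), (66, 6), (75, 6)],
  [(57, 7), (64, 7), (67, 6), (74, 7)],
  [(58, 6), (60, 7), (68, 6), (73, 6)],
  [(69, 6), (71, 7), (72, 6), (77, 6)],
  [(0, 11), (70, 7)],
  [(69, 7), (71, 6), (72, 6), (77, 6)],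
  [(69, 6), (71, 6), (72, 6), (77, 7)],
  [(58, 7), (60, 6), (68, 6), (73, 6)],
  [(57, 7), (64, 7), (67, 7), (74, 6)],
  [(59, 7), (61, 6), (66, 6), (75, 6)],
  [(62, 7), (63, 7), (65, 7), (76, 6)],
  [(69, 6), (71, 6), (72, 7), (77, 6)]]

/-- Rows of the image of generator 6. -/
def gen6 : List (List (Nat × Nat)) := [
  [(0, 1)],
  [(1, 12)],
  [(2, 12)],
  [(3, 12)],
  [(4, 1)],
  [(5, 1)],
  [(6, 1)],
  [(7, 12)],
  [(8, 12)],
  [(9, 12)],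
  [(10, 12)],
  [(11, 12)],
  [(12, 1)],
  [(13, 12)],
  [(14, 12)],
  [(15, 12)],
  [(16, 12)],
  [(17, 1)],
  [(18, 1)],
  [(19, 12)],
  [(20, 1)],
  [(21, 12)],
  [(22, 12)],
  [(23, 12)],
  [(24, 1)],
  [(25, 12)],
  [(26, 1)],
  [(27, 12)],
  [(28, 12)],
  [(29, 1)],
  [(30, 1)],
  [(31, 12)],
  [(32, 12)],
  [(33, 12)],
  [(34, 12)],
  [(35, 12)],
  [(36, 12)],
  [(37, 1)],
  [(38, 12)],
  [(39, 12)],
  [(40, 12)],
  [(41, 12)],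
  [(42, 12)],
  [(43, 12)],
  [(44, 1)],
  [(45, 12)],
  [(46, 1)],
  [(47, 12)],
  [(48, 12)],
  [(49, 12)],
  [(50, 1)],
  [(51, 12)],
  [(52, 12)],
  [(53, 1)],
  [(54, 12)],
  [(55, 12)],
  [(56, 12)],
  [(57, 1)],
  [(58, 1)],
  [(59, 12)],
  [(60, 12)],
  [(61, 12)],
  [(62, 1)],
  [(63, 12)],
  [(64, 12)],
  [(65, 12)],
  [(66, 12)],
  [(67, 12)],
  [(68, 12)],
  [(69, 12)],
  [(70, 12)],
  [(71, 12)],
  [(72, 1)],
  [(73, 12)],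
  [(74, 12)],
  [(75, 1)],
  [(76, 12)],
  [(77, 12)]]

/-- Rows of the image of generator 7. -/
def gen7 : List (List (Nat × Nat)) := [
  [(0, 1)],
  [(1, 12)],
  [(2, 12)],
  [(3, 1)],
  [(4, 12)],
  [(5, 12)],
  [(6, 12)],
  [(7, 1)],
  [(8, 12)],
  [(9, 1)],
  [(10, 12)],
  [(11, 12)],
  [(12, 12)],
  [(13, 12)],
  [(14, 12)],
  [(15, 12)],
  [(16, 1)],
  [(17, 12)],
  [(18, 1)],
  [(19, 1)],
  [(20, 1)],
  [(21, 1)],
  [(22, 12)],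
  [(23, 12)],
  [(24, 12)],
  [(25, 1)],
  [(26, 12)],
  [(27, 12)],
  [(28, 12)],
  [(29, 1)],
  [(30, 12)],
  [(31, 1)],
  [(32, 12)],
  [(33, 1)],
  [(34, 12)],
  [(35, 12)],
  [(36, 12)],
  [(37, 12)],
  [(38, 12)],
  [(39, 12)],
  [(40, 12)],
  [(41, 1)],
  [(42, 1)],
  [(43, 12)],
  [(44, 12)],
  [(45, 12)],
  [(46, 1)],
  [(47, 12)],
  [(48, 12)],
  [(49, 12)],
  [(50, 12)],
  [(51, 12)],
  [(52, 12)],
  [(53, 12)],
  [(54, 12)],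
  [(55, 12)],
  [(56, 1)],
  [(57, 1)],
  [(58, 12)],
  [(59, 12)],
  [(60, 12)],
  [(61, 12)],
  [(62, 12)],
  [(63, 12)],
  [(64, 1)],
  [(65, 12)],
  [(66, 12)],
  [(67, 1)],
  [(68, 12)],
  [(69, 12)],
  [(70, 1)],
  [(71, 12)],
  [(72, 12)],
  [(73, 12)],
  [(74, 1)],
  [(75, 12)],
  [(76, 12)],
  [(77, 12)]]

/-- Rows of the image of generator 8. -/
def gen8 : List (List (Nat × Nat)) := [
  [(0, 6), (24, 2)],
  [(1, 3), (8, 10), (16, 10), (31, 10), (33, 3), (36, 10), (42, 3), (47, 10), (48, 3), (54, 10), (59, 10), (61, 3), (64, 3), (71, 10), (74, 3), (77, 3)],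
  [(2, 6), (35, 6), (41, 7), (60, 7)],
  [(3, 6), (15, 6), (32, 7), (73, 7)],
  [(4, 6), (6, 6), (29, 6), (75, 6)],
  [(5, 6), (18, 6), (53, 6), (58, 6)],
  [(4, 6), (6, 6), (29, 7), (75, 7)],
  [(7, 6), (14, 6), (43, 7), (69, 7)],
  [(1, 10), (8, 3), (16, 10), (31, 3), (33, 10), (36, 10), (42, 3), (47, 3), (48, 10), (54, 10), (59, 3), (61, 10), (64, 3), (71, 10), (74, 3), (77, 3)],
  [(9, 6), (34, 6), (45, 7), (65, 7)],
  [(10, 6), (13, 6), (49, 6), (70, 6)],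
  [(11, 6), (19, 6), (55, 6), (63, 6)],
  [(12, 6), (37, 6), (46, 7), (62, 7)],
  [(10, 6), (13, 6), (49, 7), (70, 7)],
  [(7, 6), (14, 6), (43, 6), (69, 6)],
  [(3, 6), (15, 6), (32, 6), (73, 6)],
  [(1, 10), (8, 10), (16, 3), (31, 10), (33, 10), (36, 3), (42, 10), (47, 3), (48, 3), (54, 10), (59, 3), (61, 3), (64, 10), (71, 10), (74, 3), (77, 3)],
  [(17, 6), (30, 6), (44, 7), (57, 7)],
  [(5, 6), (18, 6), (53, 7), (58, 7)],
  [(11, 6), (19, 6), (55, 7), (63, 7)],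
  [(20, 6), (26, 6), (50, 7), (72, 7)],
  [(21, 6), (38, 6), (52, 7), (68, 7)],
  [(22, 6), (23, 6), (56, 6), (66, 6)],
  [(22, 6), (23, 6), (56, 7), (66, 7)],
  [(0, 2), (24, 7)],
  [(25, 6), (28, 6), (40, 7), (76, 7)],
  [(20, 6), (26, 6), (50, 6), (72, 6)],
  [(27, 6), (39, 6), (51, 7), (67, 7)],
  [(25, 6), (28, 6), (40, 6), (76, 6)],
  [(4, 6), (6, 7), (29, 6), (75, 7)],
  [(17, 6), (30, 6), (44, 6), (57, 6)],
  [(1, 10), (8, 3), (16, 10), (31, 3), (33, 10), (36, 10), (42, 10), (47, 10), (48, 3), (54, 3), (59, 10), (61, 3), (64, 10), (71, 3), (74, 3), (77, 3)],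
  [(3, 7), (15, 6), (32, 6), (73, 7)],
  [(1, 3), (8, 10), (16, 10), (31, 10), (33, 3), (36, 10), (42, 10), (47, 3), (48, 10), (54, 3), (59, 3), (61, 10), (64, 10), (71, 3), (74, 3), (77, 3)],
  [(9, 6), (34, 6), (45, 6), (65, 6)],
  [(2, 6), (35, 6), (41, 6), (60, 6)],
  [(1, 10), (8, 10), (16, 3), (31, 10), (33, 10), (36, 3), (42, 3), (47, 10), (48, 10), (54, 3), (59, 10), (61, 10), (64, 3), (71, 3), (74, 3), (77, 3)],
  [(12, 6), (37, 6), (46, 6), (62, 6)],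
  [(21, 6), (38, 6), (52, 6), (68, 6)],
  [(27, 6), (39, 6), (51, 6), (67, 6)],
  [(25, 7), (28, 6), (40, 6), (76, 7)],
  [(2, 7), (35, 6), (41, 6), (60, 7)],
  [(1, 3), (8, 3), (16, 10), (31, 10), (33, 10), (36, 3), (42, 3), (47, 10), (48, 10), (54, 10), (59, 3), (61, 3), (64, 10), (71, 3), (74, 3), (77, 10)],
  [(7, 7), (14, 6), (43, 6), (69, 7)],
  [(17, 7), (30, 6), (44, 6), (57, 7)],
  [(9, 7), (34, 6), (45, 6), (65, 7)],
  [(12, 7), (37, 6), (46, 6), (62, 7)],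
  [(1, 10), (8, 3), (16, 3), (31, 10), (33, 3), (36, 10), (42, 10), (47, 3), (48, 10), (54, 10), (59, 10), (61, 3), (64, 3), (71, 3), (74, 3), (77, 10)],
  [(1, 3), (8, 10), (16, 3), (31, 3), (33, 10), (36, 10), (42, 10), (47, 10), (48, 3), (54, 10), (59, 3), (61, 10), (64, 3), (71, 3), (74, 3), (77, 10)],
  [(10, 6), (13, 7), (49, 6), (70, 7)],
  [(20, 7), (26, 6), (50, 6), (72, 7)],
  [(27, 7), (39, 6), (51, 6), (67, 7)],
  [(21, 7), (38, 6), (52, 6), (68, 7)],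
  [(5, 6), (18, 7), (53, 6), (58, 7)],
  [(1, 10), (8, 10), (16, 10), (31, 3), (33, 3), (36, 3), (42, 10), (47, 10), (48, 10), (54, 3), (59, 3), (61, 3), (64, 3), (71, 10), (74, 3), (77, 10)],
  [(11, 6), (19, 7), (55, 6), (63, 7)],
  [(22, 6), (23, 7), (56, 6), (66, 7)],
  [(17, 7), (30, 6), (44, 7), (57, 6)],
  [(5, 6), (18, 7), (53, 7), (58, 6)],
  [(1, 10), (8, 3), (16, 3), (31, 10), (33, 3), (36, 10), (42, 3), (47, 10), (48, 3), (54, 3), (59, 3), (61, 10), (64, 10), (71, 10), (74, 3), (77, 10)],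
  [(2, 7), (35, 6), (41, 7), (60, 6)],
  [(1, 3), (8, 10), (16, 3), (31, 3), (33, 10), (36, 10), (42, 3), (47, 3), (48, 10), (54, 3), (59, 10), (61, 3), (64, 10), (71, 10), (74, 3), (77, 10)],
  [(12, 7), (37, 6), (46, 7), (62, 6)],
  [(11, 6), (19, 7), (55, 7), (63, 6)],
  [(1, 3), (8, 3), (16, 10), (31, 10), (33, 10), (36, 3), (42, 10), (47, 3), (48, 3), (54, 3), (59, 10), (61, 10), (64, 3), (71, 10), (74, 3), (77, 10)],
  [(9, 7), (34, 6), (45, 7), (65, 6)],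
  [(22, 6), (23, 7), (56, 7), (66, 6)],
  [(27, 7), (39, 6), (51, 7), (67, 6)],
  [(21, 7), (38, 6), (52, 7), (68, 6)],
  [(7, 7), (14, 6), (43, 7), (69, 6)],
  [(10, 6), (13, 7), (49, 7), (70, 6)],
  [(1, 10), (8, 10), (16, 10), (31, 3), (33, 3), (36, 3), (42, 3), (47, 3), (48, 3), (54, 10), (59, 10), (61, 10), (64, 10), (71, 3), (74, 3), (77, 10)],
  [(20, 7), (26, 6), (50, 7), (72, 6)],
  [(3, 7), (15, 6), (32, 7), (73, 6)],
  [(1, 3), (8, 3), (16, 3), (31, 3), (33, 3), (36, 3), (42, 3), (47, 3), (48, 3), (54, 3), (59, 3), (61, 3), (64, 3), (71, 3), (74, 3), (77, 3)],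
  [(4, 6), (6, 7), (29, 7), (75, 6)],
  [(25, 7), (28, 6), (40, 7), (76, 6)],
  [(1, 3), (8, 3), (16, 3), (31, 3), (33, 3), (36, 3), (42, 10), (47, 10), (48, 10), (54, 10), (59, 10), (61, 10), (64, 10), (71, 10), (74, 3), (77, 3)]]

/-- The nine matrices. -/
def gens : List (List (List (Nat × Nat))) := [gen0, gen1, gen2, gen3, gen4, gen5, gen6, gen7, gen8]

end CfsgLib.Coset.Fi22.Rep
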