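import Cfsg.Agent.Coset.Fi22Rep.Chk0
import Cfsg.Agent.Coset.Fi22Rep.Chk1
import Cfsg.Agent.Coset.Fi22Rep.Chk2
import Cfsg.Agent.Coset.Fi22Rep.Chk3
import Cfsg.Agent.Coset.Fi22Rep.Chk4
import Cfsg.Agent.Coset.Fi22Rep.Chk5
import Cfsg.Agent.Coset.Fi22Rep.Chk6
import Cfsg.Agent.Coset.Fi22Rep.Chk7
import Cfsg.Agent.Coset.Fi22.Order

/-! A faithful representation of degree 78 over the field with 13 elements. -/

set_option autoImplicit false
set_option maxRecDepth 100000

namespace CfsgLib.Coset.Fi22.Rep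

theorem fix_all {i : Nat} (h : i < 78) : fixOK rels i = true := by
  rcases Nat.lt_or_ge i 10 with h0 | h0
  · exact range0 i (Nat.zero_le _) h0
  rcases Nat.lt_or_ge i 20 with h1 | h1
  · exact range1 i h0 h1
  rcases Nat.lt_or_ge i 30 with h2 | h2
  · exact range2 i h1 h2
  rcases Nat.lt_or_ge i 40 with h3 | h3
  · exact range3 i h2 h3
  rcases Nat.lt_or_ge i 50 with h4 | h4
  · exact range4 i h3 h4
  rcases Nat.lt_or_ge i 59 with h5 | h5
  · exact range5 i h4 h5
  rcases Nat.lt_or_ge i 68 with h6 | h6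
  · exact range6 i h5 h6
  exact range7 i h6 h

theorem rels_lt_all : (rels.all fun w => w.all fun l => Nat.blt l 9) = true := by decide +kernel

theorem rels_lt {w : List Nat} (hw : w ∈ rels) {l : Nat} (hl : l ∈ w) : l < 9 := by
  have := List.all_eq_true.mp (List.all_eq_true.mp rels_lt_all w hw) l hl
  simpa [Nat.blt_eq] using this

theorem MW_rel {w : List Nat} (hw : w ∈ rels) : MW w = 1 := by
  refine MW_eq_one (fun l hl => rels_lt hw hl) fun i hi => ?_
  exact Nat.eq_of_beq_eq_true (List.all_eq_true.mp (fix_all hi) w hw)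

theorem sq_rel : ((List.range 9).all fun l => rels.contains [l, l]) = true := by decide +kernel

theorem M_sq {l : Nat} (h : l < 9) : M l * M l = 1 := by
  have := MW_rel (List.contains_iff_mem.mp
    (List.all_eq_true.mp sq_rel l (List.mem_range.mpr h)))
  simpa [MW] using this

/-- The image of a generator. -/
def U (l : Fin 9) : GL (Fin 78) (ZMod 13) :=
  ⟨M l.val, M l.val, M_sq l.2, M_sq l.2⟩

/-- The images of the generators. -/
def L : List (GL (Fin 78) (ZMod 13)) := List.ofFn U

theorem coe_fl {l : Nat} (h : l < 9) :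
    ((fl L l : GL (Fin 78) (ZMod 13)) : Matrix (Fin 78) (Fin 78) (ZMod 13)) = M l := by
  rw [fl, L, List.getD_eq_getElem _ _ (by simpa using h), List.getElem_ofFn]
  rfl

theorem coe_ev : ∀ w : List Nat, (∀ l ∈ w, l < 9) →
    ((ev L w : GL (Fin 78) (ZMod 13)) : Matrix (Fin 78) (Fin 78) (ZMod 13)) = MW w := by
  intro w
  induction w with
  | nil => intro _; simp [MW]
  | cons l w ih =>
    intro h
    rw [ev_cons, Units.val_mul, coe_fl (h l (by simp)), ih fun x hx => h x (by simp [hx])]
    simp [MW]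

theorem ev_rels_L : ∀ w ∈ pres.rels, ev L w = 1 := by
  rw [rels_eq]
  intro w hw
  refine Units.ext ?_
  rw [coe_ev w fun l hl => rels_lt hw hl, MW_rel hw, Units.val_one]

/-- The representation. -/
noncomputable def hom : Cfsg.Spor.Fi22 →* GL (Fin 78) (ZMod 13) := pres.hom pres_ok ev_rels_L

theorem hom_ne_one : hom ≠ 1 := by
  intro h
  have e := pres.hom_fl pres_ok ev_rels_L Cfsg.Spor.Fi22.Gen.a
  change hom _ = _ at e
  rw [h, MonoidHom.one_apply] at e
  have e' := congrArg (fun u : GL (Fin 78) (ZMod 13) =>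
    (u : Matrix (Fin 78) (Fin 78) (ZMod 13)) 1 1) e
  simp only [Units.val_one, Matrix.one_apply_eq, coe_fl (show ix .a < 9 by decide)] at e'
  revert e'
  decide +kernel

theorem exists_injective :
    ∃ f : Cfsg.Spor.Fi22 →* GL (Fin 78) (ZMod 13), Function.Injective f := by
  haveI := isSimple
  refine ⟨hom, (MonoidHom.ker_eq_bot_iff hom).mp ?_⟩
  exact (IsSimpleGroup.eq_bot_or_eq_top_of_normal hom.ker inferInstance).resolve_right
    fun ht => hom_ne_one (MonoidHom.ker_eq_top_iff.mp ht)

end CfsgLib.Coset.Fi22.Rep
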